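import Groth.Agent.L03.TypedCSA.SymbolBasis
import Mathlib.RingTheory.TensorProduct.Basic
import Mathlib.RingTheory.TensorProduct.Free
import Mathlib.LinearAlgebra.TensorProduct.Basis
import Mathlib.RingTheory.Localization.Integer
import Mathlib.RingTheory.Localization.FractionRing
import Mathlib.RingTheory.MvPolynomial.Basic
import Mathlib.Data.Prod.Lex
import Mathlib.Algebra.Order.Monoid.Prod

/-!
# A generic symbol algebra over a division algebra has no zero divisors
-/

set_option autoImplicit false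
universe u v w

open scoped TensorProduct

namespace Groth.L03.TypedCSA

/-- rational functions in two variables -/
abbrev RF (F : Type u) [Field F] : Type u := FractionRing (MvPolynomial (Fin 2) F)

/-- the variables -/
noncomputable abbrev var (F : Type u) [Field F] (i : Fin 2) : RF F :=
  algebraMap (MvPolynomial (Fin 2) F) (RF F) (MvPolynomial.X i)

/-- exponent vectors -/
noncomputable def idx (q : ℕ × ℕ) : Fin 2 →₀ ℕ := Finsupp.single 0 q.1 + Finsupp.single 1 q.2

theorem idx_injective : Function.Injective idx := fun a b h => by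
  have h0 := DFunLike.congr_fun h 0
  have h1 := DFunLike.congr_fun h 1
  simp [idx] at h0 h1
  exact Prod.ext h0 h1

variable {F : Type u} [Field F]

theorem algebraMap_monomial (q : ℕ × ℕ) (c : F) :
    algebraMap (MvPolynomial (Fin 2) F) (RF F) (MvPolynomial.monomial (idx q) c) =
      (var F 0 ^ q.1 * var F 1 ^ q.2) * algebraMap F (RF F) c := by
  rw [IsScalarTower.algebraMap_apply F (MvPolynomial (Fin 2) F) (RF F), ← map_pow, ← map_pow, ← map_mul,
    ← map_mul]
  congr 1
  rw [MvPolynomial.algebraMap_eq, MvPolynomial.monomial_eq, Finsupp.prod_pow, Fin.prod_univ_two]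
  simp [idx, mul_comm]

variable {D : Type v} [Ring D] [Algebra F D] {S : Type w} [Ring S] [Algebra (RF F) S]

/-- the monomials with coefficients in `D` -/
noncomputable def phi (X Y : S) (m : ℕ × ℕ) : D →+ (RF F ⊗[F] D) ⊗[RF F] S where
  toFun δ := ((1 : RF F) ⊗ₜ[F] δ) ⊗ₜ[RF F] mon X Y m
  map_zero' := by simp
  map_add' := fun a b => by simp [TensorProduct.tmul_add, TensorProduct.add_tmul]

/-- twisted polynomials -/
noncomputable def Phi (X Y : S) : ((ℕ × ℕ) →₀ D) →+ (RF F ⊗[F] D) ⊗[RF F] S :=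
  Finsupp.liftAddHom (phi X Y)

theorem Phi_single (X Y : S) (m : ℕ × ℕ) (δ : D) : Phi (F := F) X Y (Finsupp.single m δ) = phi X Y m δ :=
  Finsupp.liftAddHom_apply_single _ _ _

variable {ω : F} {n : ℕ}

theorem phi_mul (hω : ω ≠ 0) {X Y : S} (h : X * Y = algebraMap F (RF F) ω • (Y * X)) (m m' : ℕ × ℕ) (δ δ' : D) :
    phi (F := F) X Y m δ * phi X Y m' δ' = phi X Y (m + m') ((ω⁻¹ ^ (m.2 * m'.1)) • (δ * δ')) := by
  change ((((1 : RF F) ⊗ₜ[F] δ) ⊗ₜ[RF F] mon X Y m) * (((1 : RF F) ⊗ₜ[F] δ') ⊗ₜ[RF F] mon X Y m')) =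
    ((1 : RF F) ⊗ₜ[F] ((ω⁻¹ ^ (m.2 * m'.1)) • (δ * δ'))) ⊗ₜ[RF F] mon X Y (m + m')
  rw [Algebra.TensorProduct.tmul_mul_tmul, Algebra.TensorProduct.tmul_mul_tmul, one_mul,
    mon_mul (by simpa using hω) h, TensorProduct.tmul_smul, TensorProduct.smul_tmul',
    TensorProduct.tmul_smul]
  congr 1
  rw [← map_inv₀, ← map_pow, algebraMap_smul]

/-- leading terms do not cancel -/
theorem noZeroDivisors_of_leading {K : Type*} [Field K] {T : Type*} [Ring T] [Algebra K T] [NoZeroDivisors D]
    (hω : ω ≠ 0) (φ : ℕ × ℕ → D →+ T) (hinj : Function.Injective (Finsupp.liftAddHom φ))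
    (hscale : ∀ z, ∃ c : K, c ≠ 0 ∧ ∃ f, Finsupp.liftAddHom φ f = c • z)
    (hmul : ∀ (m m' : ℕ × ℕ) (δ δ' : D),
      φ m δ * φ m' δ' = φ (m + m') ((ω⁻¹ ^ (m.2 * m'.1)) • (δ * δ'))) :
    NoZeroDivisors T := by
  classical
  refine ⟨fun {z w} hzw => ?_⟩
  by_contra! hcon
  obtain ⟨c, hc0, f, hf⟩ := hscale z
  obtain ⟨c', hc0', g, hg⟩ := hscale w
  have hf0 : f ≠ 0 := fun h0 => by
    rw [h0, map_zero] at hf; exact hcon.1 ((smul_eq_zero.1 hf.symm).resolve_left hc0)
  have hg0 : g ≠ 0 := fun h0 => by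
    rw [h0, map_zero] at hg; exact hcon.2 ((smul_eq_zero.1 hg.symm).resolve_left hc0')
  obtain ⟨m, hm, hmax⟩ := Finset.exists_max_image f.support (fun a => toLex a) (Finsupp.support_nonempty_iff.2 hf0)
  obtain ⟨m', hm', hmax'⟩ := Finset.exists_max_image g.support (fun a => toLex a) (Finsupp.support_nonempty_iff.2 hg0)
  let H : (ℕ × ℕ) →₀ D := ∑ a ∈ f.support, ∑ b ∈ g.support,
    Finsupp.single (a + b) ((ω⁻¹ ^ (a.2 * b.1)) • (f a * g b))
  have hH : Finsupp.liftAddHom φ H = Finsupp.liftAddHom φ f * Finsupp.liftAddHom φ g := by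
    conv_rhs => rw [← f.sum_single, ← g.sum_single]
    simp only [H, Finsupp.sum, map_sum, Finsupp.liftAddHom_apply_single]
    exact (Finset.sum_congr rfl fun a _ => Finset.sum_congr rfl fun b _ => (hmul a b _ _).symm).trans
      (Finset.sum_mul_sum _ _ _ _).symm
  have hH0 : H = 0 := hinj (by rw [hH, hf, hg, smul_mul_smul_comm, hzw, smul_zero, map_zero])
  have htop : H (m + m') = (ω⁻¹ ^ (m.2 * m'.1)) • (f m * g m') := by
    have huniq : ∀ a ∈ f.support, ∀ b ∈ g.support, a + b = m + m' → a = m ∧ b = m' := by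
      intro a ha b hb hab
      have ea : a = m := by
        by_contra hne
        have hlt : toLex a < toLex m := lt_of_le_of_ne (hmax a ha) fun he => hne (toLex.injective he)
        have := add_lt_add_of_lt_of_le hlt (hmax' b hb)
        rw [← toLex_add, ← toLex_add, hab] at this
        exact lt_irrefl _ this
      subst ea
      exact ⟨rfl, add_left_cancel hab⟩
    simp only [H, Finsupp.finsetSum_apply]
    rw [Finset.sum_eq_single_of_mem m hm, Finset.sum_eq_single_of_mem m' hm', Finsupp.single_eq_same]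
    · intro b hb hbm
      exact Finsupp.single_eq_of_ne fun he => hbm (huniq m hm b hb he.symm).2
    · intro a ha ham
      exact Finset.sum_eq_zero fun b hb => Finsupp.single_eq_of_ne fun he => ham (huniq a ha b hb he.symm).1
  rw [hH0, Finsupp.zero_apply] at htop
  rcases smul_eq_zero.1 htop.symm with h0 | h0
  · exact pow_ne_zero _ (inv_ne_zero hω) h0
  · exact mul_ne_zero (Finsupp.mem_support_iff.1 hm) (Finsupp.mem_support_iff.1 hm') h0



/-- residues of exponents -/
def md (hn : 0 < n) (m : ℕ × ℕ) : Fin n × Fin n := (⟨m.1 % n, Nat.mod_lt _ hn⟩, ⟨m.2 % n, Nat.mod_lt _ hn⟩)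

/-- quotients of exponents -/
def dv (n : ℕ) (m : ℕ × ℕ) : ℕ × ℕ := (m.1 / n, m.2 / n)

section Coord

variable {ι : Type} [Fintype ι] [DecidableEq ι] (e : Module.Basis ι F D) (hn : 0 < n)

/-- the coordinate polynomials of a twisted polynomial -/
noncomputable def coordPoly (l : ι) (r : Fin n × Fin n) : ((ℕ × ℕ) →₀ D) →+ MvPolynomial (Fin 2) F :=
  Finsupp.liftAddHom fun m =>
    if md hn m = r then (MvPolynomial.monomial (idx (dv n m))).toAddMonoidHom.comp (e.coord l).toAddMonoidHom else 0

theorem coordPoly_single (l : ι) (r : Fin n × Fin n) (m : ℕ × ℕ) (δ : D) :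
    coordPoly e hn l r (Finsupp.single m δ) =
      if md hn m = r then MvPolynomial.monomial (idx (dv n m)) (e.repr δ l) else 0 := by
  simp only [coordPoly, Finsupp.liftAddHom_apply_single]
  split_ifs <;> rfl

theorem eq_zero_of_coordPoly (f : (ℕ × ℕ) →₀ D) (h : ∀ l r, coordPoly e hn l r f = 0) : f = 0 := by
  ext m₀
  apply e.repr.injective
  ext l
  have hc : ∀ g, MvPolynomial.coeff (idx (dv n m₀)) (coordPoly e hn l (md hn m₀) g) = e.repr (g m₀) l := by
    intro g
    induction g using Finsupp.induction_linear with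
    | zero => simp
    | add f g hf hg => simp [hf, hg]
    | single m δ =>
      rw [coordPoly_single]
      by_cases hmm : m = m₀
      · subst hmm
        simp
      · rw [Finsupp.single_eq_of_ne (Ne.symm hmm)]
        split_ifs with hr
        · rw [MvPolynomial.coeff_monomial, if_neg]
          · simp
          intro hd
          have hd' := idx_injective hd
          simp only [md, dv, Prod.ext_iff, Fin.ext_iff] at hr hd'
          apply hmm
          refine Prod.ext ?_ ?_
          · rw [← Nat.div_add_mod m.1 n, hd'.1, hr.1, Nat.div_add_mod]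
          · rw [← Nat.div_add_mod m.2 n, hd'.2, hr.2, Nat.div_add_mod]
        · simp
  simpa [h l] using (hc f).symm

variable {X Y : S} (bS : Module.Basis (Fin n × Fin n) (RF F) S)
  (hb : ∀ m, mon X Y m = (var F 0 ^ (m.1 / n) * var F 1 ^ (m.2 / n)) • bS (md hn m))

include e hn hb in
theorem repr_Phi : ∀ (f : (ℕ × ℕ) →₀ D) (l : ι) (r : Fin n × Fin n),
    ((Algebra.TensorProduct.basis (RF F) e).tensorProduct bS).repr (Phi (F := F) X Y f) (l, r) =
      algebraMap _ (RF F) (coordPoly e hn l r f) := by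
  intro f l r
  induction f using Finsupp.induction_linear with
  | zero => simp
  | add f g hf hg => simp [hf, hg]
  | single m δ =>
    rw [Phi_single, coordPoly_single]
    change ((Algebra.TensorProduct.basis (RF F) e).tensorProduct bS).repr (((1 : RF F) ⊗ₜ[F] δ) ⊗ₜ[RF F] mon X Y m) (l, r) = _
    simp only [Module.Basis.tensorProduct_repr_tmul_apply, Algebra.TensorProduct.basis_repr_tmul, hb m,
      map_smul, Module.Basis.repr_self, Finsupp.smul_single, smul_eq_mul, mul_one]
    split_ifs with hr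
    · subst hr
      simp [algebraMap_monomial, dv]
    · simp [Finsupp.single_apply, hr]

include e hn hb in
theorem mem_range_Phi : ∀ (p : MvPolynomial (Fin 2) F) (t : ι × Fin n × Fin n),
    algebraMap _ (RF F) p • (Algebra.TensorProduct.basis (RF F) e).tensorProduct bS t ∈
      (Phi (F := F) (D := D) X Y).range := by
  intro p t
  induction p using MvPolynomial.induction_on' with
  | add p p' hp hp' => rw [map_add, add_smul]; exact add_mem hp hp'
  | monomial v c =>
    obtain ⟨l, r₁, r₂⟩ := t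
    refine ⟨Finsupp.single ((r₁ : ℕ) + n * v 0, (r₂ : ℕ) + n * v 1) (c • e l), ?_⟩
    have hv : v = idx (v 0, v 1) := by ext i; fin_cases i <;> simp [idx]
    have hd : dv n ((r₁ : ℕ) + n * v 0, (r₂ : ℕ) + n * v 1) = (v 0, v 1) := by
      simp [dv, Nat.add_mul_div_left _ _ hn, Nat.div_eq_of_lt r₁.2, Nat.div_eq_of_lt r₂.2]
    have hr : md hn ((r₁ : ℕ) + n * v 0, (r₂ : ℕ) + n * v 1) = (r₁, r₂) := by
      simp [md, Nat.mod_eq_of_lt r₁.2, Nat.mod_eq_of_lt r₂.2]
    apply ((Algebra.TensorProduct.basis (RF F) e).tensorProduct bS).repr.injective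
    ext ⟨l', r'⟩
    rw [repr_Phi e hn bS hb, coordPoly_single, hd, hr, map_smul, Module.Basis.repr_self, map_smul, Module.Basis.repr_self,
      Finsupp.smul_apply, Finsupp.smul_apply, smul_eq_mul, smul_eq_mul, ← hv]
    by_cases h1 : (r₁, r₂) = r'
    · subst h1
      by_cases h2 : l = l'
      · subst h2; simp
      · simp [Finsupp.single_apply, h2]
    · simp [Finsupp.single_apply, h1]

include e hn hb in
theorem exists_scale : ∀ z : (RF F ⊗[F] D) ⊗[RF F] S,
    ∃ c : RF F, c ≠ 0 ∧ ∃ f, Phi (F := F) X Y f = c • z := by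
  set bT := (Algebra.TensorProduct.basis (RF F) e).tensorProduct bS with hbT
  intro z
  obtain ⟨⟨q, hq⟩, hqs⟩ := IsLocalization.exist_integer_multiples (nonZeroDivisors (MvPolynomial (Fin 2) F))
    Finset.univ (fun t => bT.repr z t)
  refine ⟨algebraMap _ (RF F) q, (map_ne_zero_iff _ (IsFractionRing.injective _ _)).2 (nonZeroDivisors.ne_zero hq), ?_⟩
  change algebraMap _ (RF F) q • z ∈ (Phi (F := F) (D := D) X Y).range
  rw [← bT.sum_repr z, Finset.smul_sum]
  refine sum_mem fun t _ => ?_
  obtain ⟨p, hp⟩ := hqs t (Finset.mem_univ _)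
  rw [smul_smul, show algebraMap _ (RF F) q * bT.repr z t = algebraMap _ (RF F) p by rw [hp, Algebra.smul_def]]
  exact mem_range_Phi e hn bS hb p t

include e hn hb in
theorem Phi_injective : Function.Injective (Phi (F := F) (D := D) X Y) := by
  rw [injective_iff_map_eq_zero]
  intro f hf
  exact eq_zero_of_coordPoly e hn f fun l r => IsFractionRing.injective (MvPolynomial (Fin 2) F) (RF F) (by
    rw [← repr_Phi e hn bS hb, hf, map_zero, map_zero, Finsupp.zero_apply])

end Coord

variable [NoZeroDivisors D] [FiniteDimensional F D]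

theorem noZeroDivisors (hn : 0 < n) (hω : ω ≠ 0) {X Y : S}
    (hx : X ^ n = algebraMap (RF F) S (var F 0)) (hy : Y ^ n = algebraMap (RF F) S (var F 1))
    (h : X * Y = algebraMap F (RF F) ω • (Y * X))
    (hgen : Algebra.adjoin (RF F) ({X, Y} : Set S) = ⊤) (hdim : Module.finrank (RF F) S = n ^ 2) :
    NoZeroDivisors ((RF F ⊗[F] D) ⊗[RF F] S) := by
  classical
  obtain ⟨bS, hbS⟩ := exists_basis hn (by simpa using hω) hx hy h hgen hdim
  have hb : ∀ m, mon X Y m = (var F 0 ^ (m.1 / n) * var F 1 ^ (m.2 / n)) • bS (md hn m) := fun m => by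
    rw [hbS]; exact mon_mod hx hy m
  have hinj := Phi_injective (Module.finBasis F D) hn bS hb
  have hscale := exists_scale (Module.finBasis F D) hn bS hb
  exact @noZeroDivisors_of_leading F _ D _ _ ω (RF F) _ ((RF F ⊗[F] D) ⊗[RF F] S) _ _ _ hω (phi X Y) hinj hscale (phi_mul hω h)

end Groth.L03.TypedCSA
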