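import Groth.Agent.L03.TypedCSA.Step
import Mathlib.RingTheory.RootsOfUnity.AlgebraicallyClosed
import Mathlib.FieldTheory.IsAlgClosed.AlgebraicClosure
import Mathlib.Algebra.Field.ULift
import Mathlib.Algebra.Central.Matrix

/-!
# Central simple algebras of prescribed period, index and degree
-/

set_option autoImplicit false
universe u

open scoped TensorProduct

namespace Groth.L03.TypedCSA

open Groth.L11 Groth.L11.Br

/-- A division algebra of period `p` and index `i` over some extension of `k₀`. -/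
theorem exists_division_type (k₀ : Type u) [Field k₀] [CharZero k₀] [IsSepClosed k₀] (p : ℕ) (hp : 0 < p) :
    ∀ i : ℕ, 0 < i → p ∣ i → (∀ q : ℕ, q.Prime → q ∣ i → q ∣ p) →
      ∃ (F : Type u) (_ : Field F) (_ : Algebra k₀ F) (D : Type u) (_ : Ring D) (_ : Algebra F D)
        (_ : Algebra.IsCentral F D) (_ : IsSimpleRing D) (_ : NoZeroDivisors D),
        Module.finrank F D = i * i ∧ CSAGal.IsPeriod F D p := by
  intro i
  induction i using Nat.strong_induction_on with
  | _ i ih =>
    intro hi hpi hpr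
    have root : ∀ (F : Type u) [Field F] [Algebra k₀ F] (n : ℕ), 0 < n →
        ∃ ω : F, IsPrimitiveRoot ω n := by
      intro F _ _ n hn
      haveI : NeZero (n : k₀) := ⟨Nat.cast_ne_zero.2 hn.ne'⟩
      obtain ⟨ω, hω⟩ := HasEnoughRootsOfUnity.exists_primitiveRoot k₀ n
      exact ⟨algebraMap k₀ F ω, hω.map_of_injective (algebraMap k₀ F).injective⟩
    by_cases hip : i = p
    · subst hip
      obtain ⟨ω, hω⟩ := root k₀ i hi
      have h1 : CSAGal.IsPeriod k₀ k₀ 1 :=
        ⟨Nat.one_pos, (Idx.splits_tpow_iff_beq 1).2 (BEq.of_algEquiv Idx.oneEquiv), fun e h0 he => by omega⟩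
      obtain ⟨T, _, _, hc, hs, hz, hdim, -, hper⟩ :=
        exists_step (F := k₀) (D := k₀) hi hω (i := 1) (by rw [Module.finrank_self]) h1
      exact ⟨RF k₀, inferInstance, inferInstance, T, inferInstance, inferInstance, hc, hs, hz,
        by rw [hdim, one_mul], hper ⟨rfl, rfl⟩⟩
    · obtain ⟨c, rfl⟩ := hpi
      have hc1 : c ≠ 1 := by rintro rfl; exact hip (mul_one p)
      obtain ⟨q, hq, hqc⟩ := Nat.exists_prime_and_dvd hc1
      obtain ⟨c', rfl⟩ := hqc
      have hqp : q ∣ p := hpr q hq ⟨p * c', by ring⟩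
      have hc' : 0 < p * c' := Nat.mul_pos hp (Nat.pos_of_ne_zero fun h => by simp [h] at hi)
      obtain ⟨F, _, _, D, _, _, hcD, hsD, hzD, hdim, hper⟩ := ih (p * c')
        (by nlinarith [hq.two_le]) hc' (Nat.dvd_mul_right p c')
        (fun r hr hrd => hpr r hr (hrd.trans ⟨q, by ring⟩))
      haveI : FiniteDimensional F D := Module.finite_of_finrank_pos (by rw [hdim]; exact Nat.mul_pos hc' hc')
      obtain ⟨ω, hω⟩ := root F q hq.pos
      obtain ⟨T, _, _, hcT, hsT, hzT, hdimT, hperT, -⟩ := exists_step (F := F) (D := D) hq.pos hω hdim hper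
      exact ⟨RF F, inferInstance, inferInstance, T, inferInstance, inferInstance, hcT, hsT, hzT,
        by rw [hdimT]; ring, hperT hqp⟩

/-- A central simple algebra of period `p`, index `i` and degree `d`. -/
theorem exists_csa_of_type (p i d : ℕ) (hp : 0 < p) (hi : 0 < i) (hd : 0 < d)
    (hpi : p ∣ i) (hid : i ∣ d) (hprimes : ∀ q : ℕ, q.Prime → q ∣ i → q ∣ p) :
    ∃ (k : Type u) (_ : Field k) (A : Type u) (_ : Ring A) (_ : Algebra k A),
      Algebra.IsCentral k A ∧ IsSimpleRing A ∧ Module.finrank k A = d * d ∧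
      CSAGal.IsPeriod k A p ∧ CSAGal.IsIndex k A i := by
  let k₀ : Type u := AlgebraicClosure (ULift.{u} ℚ)
  haveI : CharZero (ULift.{u} ℚ) := charZero_of_injective_ringHom (f := (ULift.ringEquiv : ULift.{u} ℚ ≃+* ℚ).symm.toRingHom)
    (ULift.ringEquiv : ULift.{u} ℚ ≃+* ℚ).symm.injective
  haveI : CharZero k₀ := charZero_of_injective_algebraMap (FaithfulSMul.algebraMap_injective (ULift.{u} ℚ) k₀)
  obtain ⟨F, _, _, D, _, _, hcD, hsD, hzD, hdim, hper⟩ := exists_division_type k₀ p hp i hi hpi hprimes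
  haveI : FiniteDimensional F D := Module.finite_of_finrank_pos (by rw [hdim]; exact Nat.mul_pos hi hi)
  haveI : IsDomain D := NoZeroDivisors.to_isDomain D
  letI : DivisionRing D := divisionRingOfFiniteDimensional F D
  obtain ⟨m, rfl⟩ := hid
  have hm : 0 < m := Nat.pos_of_ne_zero fun h => by simp [h] at hd
  haveI : NeZero m := ⟨hm.ne'⟩
  refine ⟨F, inferInstance, Matrix (Fin m) (Fin m) D, inferInstance, inferInstance, inferInstance, inferInstance,
    ?_, ?_, hi, m, D, inferInstance, inferInstance, hm, by rw [hdim, sq], ⟨AlgEquiv.refl⟩⟩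
  · rw [Module.finrank_matrix, hdim, Fintype.card_fin]; ring
  · exact isPeriod_of_beq (BEq.matrix_left D hm.ne').symm hper

end Groth.L03.TypedCSA
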