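import Groth.Agent.L18.Grass.ClosedSubfunctor
import Groth.Agent.L18.Grass.LeftIdeal
import Groth.Prelude.Def_BrSev2

/-!
# Existence of Severi–Brauer schemes
-/

set_option autoImplicit false
universe u

open CategoryTheory AlgebraicGeometry
open scoped TensorProduct

namespace Groth.L03.TypedCSA

theorem left_ideal_iff {R : Type u} [CommRing R] {B : Type u} [CommRing B] [Algebra R B] {A : Type u} [Ring A]
    [Algebra R A] (N : Submodule B (B ⊗[R] A)) :
    (∀ a x : B ⊗[R] A, x ∈ N → a * x ∈ N) ↔ Groth.L18.GrassIdeal.Stable (R := R) (A := A) N := by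
  refine ⟨fun h a x hx => h _ x hx, fun h a x hx => ?_⟩
  induction a using TensorProduct.induction_on with
  | zero => simp
  | tmul b a =>
    rw [show b ⊗ₜ[R] a = b • ((1 : B) ⊗ₜ[R] a) by rw [TensorProduct.smul_tmul', smul_eq_mul, mul_one],
      smul_mul_assoc]
    exact N.smul_mem _ (h a x hx)
  | add a a' ha ha' => rw [add_mul]; exact add_mem ha ha'

theorem exists_isSBOf (k : Type u) [Field k] (A : Type u) [Ring A] [Algebra k A] [FiniteDimensional k A] (c : ℕ) :
    ∃ (X : Scheme.{u}) (f : X ⟶ Spec (CommRingCat.of k)), BrSev.IsSBOf k A c f := by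
  obtain ⟨X, e, -, he⟩ := Groth.L18.GrassSub.exists_representing_finite (R := k) A c
  obtain ⟨Z, ι, hι, hZ⟩ := Groth.L18.GrassIdeal.exists_closedImmersion e he
  haveI := hι
  let f : Z ⟶ Spec (CommRingCat.of k) := ι ≫ X.hom
  let toX : ∀ (R : Type u) [CommRing R] [Algebra k R], BrSev.Pts f R →
      (Over.mk (Spec.map (CommRingCat.ofHom (algebraMap k (CommAlgCat.of k R)))) ⟶ X) :=
    fun R _ _ g => Over.homMk (g.1 ≫ ι) ((Category.assoc _ _ _).trans g.2)
  let F : ∀ (R : Type u) [CommRing R] [Algebra k R], BrSev.Pts f R → BrSev.SBSet k A c R := fun R _ _ g =>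
    ⟨e (CommAlgCat.of k R) (toX R g),
      (left_ideal_iff (e (CommAlgCat.of k R) (toX R g)).toSubmodule).2
        ((hZ (CommAlgCat.of k R) (toX R g)).1 ⟨g.1, rfl⟩)⟩
  have hF : ∀ (R : Type u) [CommRing R] [Algebra k R], Function.Bijective (F R) := by
    intro R _ _
    refine ⟨fun g g' h => Subtype.ext ((cancel_mono ι).1
      (congrArg (fun t => t.left) ((e (CommAlgCat.of k R)).injective (congrArg Subtype.val h)))), fun N => ?_⟩
    obtain ⟨h, hh⟩ := (hZ (CommAlgCat.of k R) ((e (CommAlgCat.of k R)).symm N.1)).2 (by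
      exact ((e (CommAlgCat.of k R)).apply_symm_apply N.1).symm ▸ (left_ideal_iff N.1.toSubmodule).1 N.2)
    refine ⟨⟨h, ?_⟩, Subtype.ext ?_⟩
    · show h ≫ ι ≫ X.hom = _
      rw [← Category.assoc, hh]; exact Over.w _
    · exact (congrArg (e (CommAlgCat.of k R)) (Over.OverMorphism.ext hh)).trans ((e (CommAlgCat.of k R)).apply_symm_apply _)
  refine ⟨Z, f, ⟨⟨fun R _ _ => Equiv.ofBijective (F R) (hF R), fun R S _ _ _ _ φ g => ?_⟩⟩⟩
  exact congrArg Module.Grassmannian.toSubmodule
    (he (CommAlgCat.of k R) (CommAlgCat.of k S) (CommAlgCat.ofHom φ) (toX R g) (toX S (BrSev.Pts.map f φ g))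
      (Category.assoc _ _ _))

end Groth.L03.TypedCSA
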