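import Groth.Agent.L03.TypedCSA.Domain
import Groth.Agent.L11.Amitsur.SymbolGen
import Groth.Agent.L11.CSA.PeriodIndex
import Mathlib.Algebra.MvPolynomial.Expand
import Mathlib.FieldTheory.KummerExtension

/-!
# Tensoring with a generic symbol algebra
-/

set_option autoImplicit false
universe u v w

open scoped TensorProduct

namespace Groth.L03.TypedCSA

open Groth.L11 Groth.L11.Br

theorem isPeriod_of_beq {k : Type u} [Field k] {A : Type v} [Ring A] [Algebra k A] [Algebra.IsCentral k A]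
    [IsSimpleRing A] [FiniteDimensional k A] {B : Type w} [Ring B] [Algebra k B] [Algebra.IsCentral k B]
    [IsSimpleRing B] [FiniteDimensional k B] (h : BEq k A B) {p : ℕ} (hp : CSAGal.IsPeriod k A p) :
    CSAGal.IsPeriod k B p := by
  have key : ∀ e, Curves.Splits k (CSAGal.tpow k B e) k ↔ Curves.Splits k (CSAGal.tpow k A e) k := fun e => by
    rw [Idx.splits_tpow_iff_beq, Idx.splits_tpow_iff_beq]
    exact ⟨(Idx.beq_tpow h e).trans, (Idx.beq_tpow h e).symm.trans⟩
  exact ⟨hp.1, (key p).2 hp.2.1, fun e h0 he hs => hp.2.2 e h0 he ((key e).1 hs)⟩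

variable (F : Type u) [Field F] {n : ℕ}

theorem irreducible_var (hn : 0 < n) : Irreducible (Polynomial.X ^ n - Polynomial.C (var F 0)) := by
  have hX0 : Prime (MvPolynomial.X 0 : MvPolynomial (Fin 2) F) := MvPolynomial.X_prime
  have hirrP : Irreducible (Polynomial.X ^ n - Polynomial.C (MvPolynomial.X 0 : MvPolynomial (Fin 2) F)) := by
    refine Polynomial.IsEisensteinAt.irreducible (𝓟 := Ideal.span {(MvPolynomial.X 0 : MvPolynomial (Fin 2) F)})
      ⟨?_, ?_, ?_⟩ ((Ideal.span_singleton_prime hX0.ne_zero).mpr hX0)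
      (Polynomial.monic_X_pow_sub_C _ hn.ne').isPrimitive (by rw [Polynomial.natDegree_X_pow_sub_C]; exact hn)
    · rw [(Polynomial.monic_X_pow_sub_C _ hn.ne').leadingCoeff, Ideal.mem_span_singleton]
      exact fun h => hX0.not_isUnit (isUnit_of_dvd_one h)
    · intro m hm
      rw [Polynomial.natDegree_X_pow_sub_C] at hm
      rw [Polynomial.coeff_sub, Polynomial.coeff_X_pow, if_neg hm.ne, zero_sub, Polynomial.coeff_C]
      refine neg_mem ?_
      split_ifs
      · exact Ideal.subset_span rfl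
      · exact zero_mem _
    · rw [Polynomial.coeff_sub, Polynomial.coeff_X_pow, if_neg hn.ne, zero_sub, Polynomial.coeff_C_zero,
        neg_mem_iff, Ideal.span_singleton_pow, Ideal.mem_span_singleton, sq]
      intro h
      obtain ⟨t, ht⟩ := h
      refine hX0.not_isUnit (IsUnit.of_mul_eq_one t (mul_left_cancel₀ hX0.ne_zero ?_))
      rw [← mul_assoc, ← ht, mul_one]
  have := ((Polynomial.monic_X_pow_sub_C _ hn.ne').irreducible_iff_irreducible_map_fraction_map (K := RF F)).mp hirrP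
  simpa using this

variable {F}

/-- A class over `F` killed by a generic symbol algebra is trivial. -/
theorem beq_one_of_tensor_symbol (hn : 0 < n) {S : Type u} [Ring S] [Algebra (RF F) S]
    [Algebra.IsCentral (RF F) S] [IsSimpleRing S] {X : S} (hX : X ^ n = algebraMap (RF F) S (var F 0))
    (hdim : Module.finrank (RF F) S = n ^ 2) (e : ℕ) (E : Type u) [Ring E] [Algebra F E] [Algebra.IsCentral F E]
    [IsSimpleRing E] [FiniteDimensional F E]
    (h : BEq (RF F) ((RF F ⊗[F] E) ⊗[RF F] CSAGal.tpow (RF F) S e) (RF F)) : BEq F E F := by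
  haveI := Fact.mk (irreducible_var F hn)
  haveI : FiniteDimensional (RF F) S := Module.finite_of_finrank_pos (by rw [hdim]; exact pow_pos hn 2)
  let f := Polynomial.X ^ n - Polynomial.C (var F 0)
  let K := AdjoinRoot f
  have hKd : Module.finrank (RF F) K = n := by
    rw [(AdjoinRoot.powerBasis (irreducible_var F hn).ne_zero).finrank, AdjoinRoot.powerBasis_dim,
      Polynomial.natDegree_X_pow_sub_C]
  haveI : FiniteDimensional (RF F) K := (AdjoinRoot.powerBasis (irreducible_var F hn).ne_zero).finite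
  have hev : Polynomial.aeval X f = 0 := by simp [f, hX]
  let ι : K →ₐ[RF F] S :=
    Ideal.Quotient.liftₐ (Ideal.span {f}) (Polynomial.aeval X) (fun a ha => by
      obtain ⟨b, rfl⟩ := Ideal.mem_span_singleton.1 ha
      rw [map_mul, hev, zero_mul])
  have hS : Curves.Splits (RF F) S K := Cyc.splits_of_maximal_subfield ι (by rw [hdim, hKd])
  have hSe : Curves.Splits (RF F) (CSAGal.tpow (RF F) S e) K := Idx.splits_tpow_of_splits K hS e
  obtain ⟨hce, hse⟩ := Amitsur.csa_baseChange (k := F) E (RF F)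
  have hK : BEq K (K ⊗[F] E) K := by
    have h1 := ((BEq.of_algEquiv (Algebra.TensorProduct.congr (AlgEquiv.refl : K ≃ₐ[K] K)
      (Algebra.TensorProduct.comm (RF F) (CSAGal.tpow (RF F) S e) (RF F ⊗[F] E)))).trans (h.baseChange K)).trans
      (.of_algEquiv (Algebra.TensorProduct.rid (RF F) K K))
    exact (BEq.of_algEquiv (Groth.L21.CSA.cancelEquiv F E (RF F) K)).trans
      ((Amitsur.beq_of_tensor_left hSe).symm.trans h1)
  haveI := (Amitsur.csa_baseChange (k := F) E K).1
  haveI := (Amitsur.csa_baseChange (k := F) E K).2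
  have hK' : Curves.Splits F E K := by
    obtain ⟨m, hm, ⟨g⟩⟩ := Idx.splits_self_iff.2 hK
    exact ⟨m, hm, ⟨(Algebra.TensorProduct.lid K (K ⊗[F] E)).symm.trans g⟩⟩
  have hφ : Function.Injective (MvPolynomial.expand n : MvPolynomial (Fin 2) F →ₐ[F] MvPolynomial (Fin 2) F).toRingHom :=
    MvPolynomial.expand_injective hn
  let φ : RF F →+* RF F := IsFractionRing.map (A := MvPolynomial (Fin 2) F) (B := MvPolynomial (Fin 2) F) hφ
  have hφm : ∀ z, φ (algebraMap (MvPolynomial (Fin 2) F) (RF F) z) = algebraMap _ (RF F) (MvPolynomial.expand n z) :=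
    fun z => IsLocalization.map_eq _ z
  let ψ : K →+* RF F := AdjoinRoot.lift φ (var F 0) (by simp [f, var, hφm, MvPolynomial.expand_X])
  letI : Algebra K (RF F) := ψ.toAlgebra
  haveI : IsScalarTower F K (RF F) := IsScalarTower.of_algebraMap_eq fun c => by
    show algebraMap F (RF F) c = ψ (AdjoinRoot.of f (algebraMap F (RF F) c))
    rw [AdjoinRoot.lift_of, IsScalarTower.algebraMap_apply F (MvPolynomial (Fin 2) F) (RF F), hφm]
    simp [MvPolynomial.algebraMap_eq]
  exact Idx.splits_self_iff.1 (Amitsur.splits_of_fractionRing (Groth.L21.CSA.splits_trans F E K (RF F) hK'))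

variable {D : Type u} [Ring D] [Algebra F D] [Algebra.IsCentral F D] [IsSimpleRing D] [FiniteDimensional F D]

theorem isPeriod_twist (hn : 0 < n) {S : Type u} [Ring S] [Algebra (RF F) S]
    [Algebra.IsCentral (RF F) S] [IsSimpleRing S] {X : S} (hX : X ^ n = algebraMap (RF F) S (var F 0))
    (hdim : Module.finrank (RF F) S = n ^ 2) {p : ℕ} (hp : CSAGal.IsPeriod F D p) (hnp : n ∣ p) :
    CSAGal.IsPeriod (RF F) ((RF F ⊗[F] D) ⊗[RF F] S) p := by
  haveI : FiniteDimensional (RF F) S := Module.finite_of_finrank_pos (by rw [hdim]; exact pow_pos hn 2)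
  haveI := (Amitsur.csa_baseChange (k := F) D (RF F)).1
  haveI := (Amitsur.csa_baseChange (k := F) D (RF F)).2
  haveI : Algebra.IsCentral (RF F) ((RF F ⊗[F] D) ⊗[RF F] S) := CSA.isCentral_tensor
  haveI : IsSimpleRing ((RF F ⊗[F] D) ⊗[RF F] S) := CSA.isSimpleRing_tensor
  have hpow : ∀ e, BEq (RF F) (CSAGal.tpow (RF F) ((RF F ⊗[F] D) ⊗[RF F] S) e)
      ((RF F ⊗[F] CSAGal.tpow F D e) ⊗[RF F] CSAGal.tpow (RF F) S e) := fun e =>
    (Amitsur.beq_tpow_tensor (RF F) (RF F ⊗[F] D) S e).trans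
      ((Amitsur.beq_tpow_baseChange F D (RF F) e).symm.tensor_right _)
  refine ⟨hp.1, ?_, fun e h0 he hs => ?_⟩
  · rw [Idx.splits_tpow_iff_beq]
    have hSn : BEq (RF F) (CSAGal.tpow (RF F) S p) (RF F) := Idx.beq_one_of_dvd
      ((Idx.splits_tpow_iff_beq n).1 (Idx.splits_tpow_of_beq hdim (Br.BEq.refl S))) hnp
    refine ((hpow p).trans (hSn.tensor_left _)).trans ?_
    exact (BEq.of_algEquiv (Algebra.TensorProduct.rid (RF F) (RF F) _)).trans
      ((((Idx.splits_tpow_iff_beq p).1 hp.2.1).baseChange (RF F)).trans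
        (.of_algEquiv (Algebra.TensorProduct.rid F (RF F) (RF F))))
  · rw [Idx.splits_tpow_iff_beq] at hs
    obtain ⟨_, _, _⟩ := TPow.csa F D e
    exact hp.2.2 e h0 he ((Idx.splits_tpow_iff_beq e).2
      (beq_one_of_tensor_symbol hn hX hdim e (CSAGal.tpow F D e) ((hpow e).symm.trans hs)))

/-- One step of the tower. -/
theorem exists_step (hn : 0 < n) {ω : F} (hω : IsPrimitiveRoot ω n) [NoZeroDivisors D] {i : ℕ}
    (hD : Module.finrank F D = i * i) {p : ℕ} (hp : CSAGal.IsPeriod F D p)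
    :
    ∃ (T : Type u) (_ : Ring T) (_ : Algebra (RF F) T) (_ : Algebra.IsCentral (RF F) T) (_ : IsSimpleRing T)
      (_ : NoZeroDivisors T), Module.finrank (RF F) T = (i * n) * (i * n) ∧
        (n ∣ p → CSAGal.IsPeriod (RF F) T p) ∧ (p = 1 ∧ i = 1 → CSAGal.IsPeriod (RF F) T n) := by
  have hne : ∀ j, var F j ≠ 0 := fun j =>
    (map_ne_zero_iff _ (IsFractionRing.injective (MvPolynomial (Fin 2) F) (RF F))).2 (MvPolynomial.X_ne_zero j)
  obtain ⟨S, _, _, S', _, _, hsym, _, _, _, _, hdS, _, _⟩ :=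
    Amitsur.exists_symbol_pair F n hn ω hω (Units.mk0 _ (hne 0)) (Units.mk0 _ (hne 1)) rfl
  have hω' : algebraMap (MvPolynomial (Fin 2) F) (RF F) (MvPolynomial.C ω) = algebraMap F (RF F) ω :=
    (IsScalarTower.algebraMap_apply F (MvPolynomial (Fin 2) F) (RF F) ω).symm
  obtain ⟨X, Y, hX, hY, hXY, hgen, -, hdim⟩ := id hsym
  rw [Units.val_mk0] at hX hY
  haveI : FiniteDimensional (RF F) S := Module.finite_of_finrank_pos (by rw [hdim]; exact pow_pos hn 2)
  haveI := (Amitsur.csa_baseChange (k := F) D (RF F)).1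
  haveI := (Amitsur.csa_baseChange (k := F) D (RF F)).2
  haveI hcT : Algebra.IsCentral (RF F) ((RF F ⊗[F] D) ⊗[RF F] S) := CSA.isCentral_tensor
  haveI hsT : IsSimpleRing ((RF F ⊗[F] D) ⊗[RF F] S) := CSA.isSimpleRing_tensor
  refine ⟨(RF F ⊗[F] D) ⊗[RF F] S, inferInstance, inferInstance, hcT, hsT,
    noZeroDivisors hn (hω.ne_zero hn.ne') hX hY (hω' ▸ hXY) hgen hdim, ?_,
    fun hnp => isPeriod_twist hn hX hdim hp hnp, fun h1 => ?_⟩
  · rw [Module.finrank_tensorProduct, Module.finrank_baseChange, hD, hdim]; ring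
  · obtain ⟨rfl, rfl⟩ := h1
    have hDF : BEq F D F := (BEq.of_algEquiv Idx.oneEquiv.symm).trans ((Idx.splits_tpow_iff_beq 1).1 hp.2.1)
    refine isPeriod_of_beq (Br.BEq.symm ?_)
      (Groth.Agent.S13273.result F n hn ω hω _ _ (Units.val_mk0 (hne 0)) (Units.val_mk0 (hne 1)) S hsym)
    exact (((hDF.baseChange (RF F)).trans (.of_algEquiv (Algebra.TensorProduct.rid F (RF F) (RF F)))).tensor_right S).trans
      (.of_algEquiv (Algebra.TensorProduct.lid (RF F) S))

end Groth.L03.TypedCSA
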