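import Groth.Prelude.Def_GSzCSA
import Mathlib.LinearAlgebra.Dimension.Finite
import Mathlib.LinearAlgebra.FiniteDimensional.Basic
import Mathlib.LinearAlgebra.Dimension.OrzechProperty

/-!
# The monomial basis of a symbol algebra
-/

set_option autoImplicit false
universe u v

namespace Groth.L03.TypedCSA

variable {K : Type u} [Field K] {S : Type v} [Ring S] [Algebra K S]

/-- monomials in two elements -/
def mon (X Y : S) (m : ℕ × ℕ) : S := X ^ m.1 * Y ^ m.2

variable {X Y : S} {ω x y : K}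

theorem mul_pow_swap (hω : ω ≠ 0) (h : X * Y = ω • (Y * X)) (a : ℕ) :
    Y * X ^ a = ω⁻¹ ^ a • (X ^ a * Y) := by
  have h' : Y * X = ω⁻¹ • (X * Y) := by rw [h, smul_smul, inv_mul_cancel₀ hω, one_smul]
  induction a with
  | zero => simp
  | succ a ih =>
    rw [pow_succ, ← mul_assoc, ih, smul_mul_assoc, mul_assoc, h', mul_smul_comm, smul_smul, ← pow_succ,
      ← mul_assoc]

theorem pow_pow_swap (hω : ω ≠ 0) (h : X * Y = ω • (Y * X)) (a b : ℕ) :
    Y ^ b * X ^ a = ω⁻¹ ^ (b * a) • (X ^ a * Y ^ b) := by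
  induction b with
  | zero => simp
  | succ b ih =>
    rw [pow_succ, mul_assoc, mul_pow_swap hω h, mul_smul_comm, ← mul_assoc, ih, smul_mul_assoc, smul_smul,
      mul_assoc, ← pow_succ, ← pow_add]
    congr 2
    ring

theorem mon_mul (hω : ω ≠ 0) (h : X * Y = ω • (Y * X)) (m m' : ℕ × ℕ) :
    mon X Y m * mon X Y m' = ω⁻¹ ^ (m.2 * m'.1) • mon X Y (m + m') := by
  simp only [mon, Prod.fst_add, Prod.snd_add]
  rw [mul_assoc, ← mul_assoc (Y ^ m.2), pow_pow_swap hω h, smul_mul_assoc, mul_smul_comm, pow_add, pow_add]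
  simp only [mul_assoc]

theorem mon_mod {n : ℕ} (hx : X ^ n = algebraMap K S x) (hy : Y ^ n = algebraMap K S y) (m : ℕ × ℕ) :
    mon X Y m = (x ^ (m.1 / n) * y ^ (m.2 / n)) • mon X Y (m.1 % n, m.2 % n) := by
  simp only [mon]
  conv_lhs => rw [← Nat.div_add_mod m.1 n, ← Nat.div_add_mod m.2 n, pow_add, pow_add, pow_mul, pow_mul, hx, hy,
    ← map_pow, ← map_pow]
  rw [Algebra.smul_def, map_mul]
  simp only [mul_assoc]
  congr 1
  rw [← mul_assoc, ← Algebra.commutes, mul_assoc]

variable {n : ℕ} (hn : 0 < n) (hω : ω ≠ 0) (hx : X ^ n = algebraMap K S x) (hy : Y ^ n = algebraMap K S y)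
  (h : X * Y = ω • (Y * X)) (hgen : Algebra.adjoin K ({X, Y} : Set S) = ⊤) (hdim : Module.finrank K S = n ^ 2)

include hn hω hx hy h hgen hdim in
theorem exists_basis : ∃ b : Module.Basis (Fin n × Fin n) K S, ∀ r, b r = mon X Y ((r.1 : ℕ), (r.2 : ℕ)) := by
  let v : Fin n × Fin n → S := fun r => mon X Y ((r.1 : ℕ), (r.2 : ℕ))
  let M : Submodule K S := Submodule.span K (Set.range v)
  have hmem : ∀ m, mon X Y m ∈ M := fun m => by
    rw [mon_mod hx hy m]
    exact M.smul_mem _ (Submodule.subset_span ⟨(⟨m.1 % n, Nat.mod_lt _ hn⟩, ⟨m.2 % n, Nat.mod_lt _ hn⟩), rfl⟩)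
  have h1 : (1 : S) ∈ M := by simpa [mon] using hmem (0, 0)
  have hmul : ∀ a b : S, a ∈ M → b ∈ M → a * b ∈ M := by
    intro a b ha hb
    induction ha using Submodule.span_induction with
    | mem a ha =>
      obtain ⟨r, rfl⟩ := ha
      induction hb using Submodule.span_induction with
      | mem b hb =>
        obtain ⟨r', rfl⟩ := hb
        rw [mon_mul hω h]
        exact M.smul_mem _ (hmem _)
      | zero => simp
      | add b b' _ _ hb hb' => rw [mul_add]; exact add_mem hb hb'
      | smul c b _ hb => rw [mul_smul_comm]; exact M.smul_mem _ hb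
    | zero => simp
    | add a a' _ _ ha ha' => rw [add_mul]; exact add_mem ha ha'
    | smul c a _ ha => rw [smul_mul_assoc]; exact M.smul_mem _ ha
  have htop : ⊤ ≤ Submodule.span K (Set.range v) := by
    intro z _
    have hle : Algebra.adjoin K ({X, Y} : Set S) ≤ M.toSubalgebra h1 hmul := Algebra.adjoin_le (by
      rintro w (rfl | rfl)
      · simpa [mon] using hmem (1, 0)
      · simpa [mon] using hmem (0, 1))
    rw [hgen] at hle
    exact hle (Algebra.mem_top (x := z))
  have hc : Fintype.card (Fin n × Fin n) = Module.finrank K S := by simp [hdim, sq]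
  have hli := linearIndependent_of_top_le_span_of_card_eq_finrank htop hc
  exact ⟨Module.Basis.mk hli htop, fun r => Module.Basis.mk_apply hli htop r⟩

end Groth.L03.TypedCSA
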